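import Groth.Agent.DEquivLib.Sigma

/-!
# Extending a comparison along windows of degrees
-/

set_option autoImplicit false

universe w v u v' u'

open CategoryTheory CategoryTheory.Limits CategoryTheory.Pretriangulated DerivedCategory

namespace DEquivLib

variable {A : Type u} [Category.{v} A] [Abelian A] [HasDerivedCategory.{w} A]

/-- A triangle peeling off the top cohomology. -/
structure Dat (b : ℤ) (K : DerivedCategory.Bounded A) where
  /-- The object placed in degree `b`. -/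
  N : A
  /-- The map into `K`. -/
  u : (S A b).obj N ⟶ K
  /-- The cone. -/
  K' : DerivedCategory.Bounded A
  /-- The map to the cone. -/
  g : K ⟶ K'
  /-- The connecting map. -/
  δ : K' ⟶ ((S A b).obj N)⟦(1 : ℤ)⟧
  hT : Triangle.mk u g δ ∈ distTriang (DerivedCategory.Bounded A)
  epi : Epi ((H A b).map u)

theorem Dat.win {a b : ℤ} (hab : a < b) {K : DerivedCategory.Bounded A} (hK : Win a b K) (X : Dat b K) :
    Win a (b - 1) X.K' :=
  haveI := X.epi
  win_cone hab hK X.u X.g X.δ X.hT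

/-- The connecting map in degree `b - 1`. -/
noncomputable def Dat.δ' {b : ℤ} {K : DerivedCategory.Bounded A} (X : Dat b K) :
    X.K' ⟶ (S A (b - 1)).obj X.N :=
  X.δ ≫ (shiftS A b).hom.app X.N

theorem exists_dat {a b : ℤ} {K : DerivedCategory.Bounded A} (hK : Win a b K) :
    Nonempty (Dat b K) := by
  obtain ⟨P, u, hu⟩ := exists_admissible hK
  obtain ⟨K', g, δ, hT⟩ := distinguished_cocone_triangle u
  exact ⟨⟨P, u, K', g, δ, hT, hu⟩⟩

variable {D : Type u'} [Category.{v'} D] [Preadditive D] [HasZeroObject D] [HasShift D ℤ]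
  [∀ n : ℤ, (shiftFunctor D n).Additive] [Pretriangulated D]
  (F F' : DerivedCategory.Bounded A ⥤ D) [F.CommShift ℤ] [F'.CommShift ℤ]
  [F.IsTriangulated] [F'.IsTriangulated]
  (s : DEquiv.singleB A ⋙ F ≅ DEquiv.singleB A ⋙ F')

/-- Extension of a comparison across one step. -/
theorem exists_step {b : ℤ} {K : DerivedCategory.Bounded A} (X : Dat b K) (t' : F.obj X.K' ⟶ F'.obj X.K')
    (h : F.map X.δ' ≫ (σ F F' s (b - 1)).hom.app X.N = t' ≫ F'.map X.δ') :
    ∃ t : F.obj K ⟶ F'.obj K, F.map X.u ≫ t = (σ F F' s b).hom.app X.N ≫ F'.map X.u ∧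
      F.map X.g ≫ t' = t ≫ F'.map X.g ∧ (IsIso t' → IsIso t) := by
  let σN : F.obj ((S A b).obj X.N) ⟶ F'.obj ((S A b).obj X.N) := (σ F F' s b).hom.app X.N
  have hδ : (F.map X.δ ≫ (F.commShiftIso (1 : ℤ)).hom.app _) ≫ σN⟦(1 : ℤ)⟧' =
      t' ≫ F'.map X.δ ≫ (F'.commShiftIso (1 : ℤ)).hom.app _ := by
    have h1 := σ_shift F F' s b X.N
    rw [Dat.δ', F.map_comp, Category.assoc, h1, F'.map_comp, ← Category.assoc, ← Category.assoc] at h
    have h2 := (cancel_mono (F'.map ((shiftS A b).hom.app X.N))).1 h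
    have h3 := congrArg (fun x => x ≫ (F'.commShiftIso (1 : ℤ)).hom.app ((S A b).obj X.N)) h2
    simp only [τ, Category.assoc, Iso.inv_hom_id_app] at h3
    erw [Category.comp_id] at h3
    simp only [Category.assoc]
    exact h3
  have hT₁ := F.map_distinguished _ X.hT
  have hT₂ := F'.map_distinguished _ X.hT
  obtain ⟨t, ht₁, ht₂⟩ := complete_distinguished_triangle_morphism₂
    (F.mapTriangle.obj (Triangle.mk X.u X.g X.δ)) (F'.mapTriangle.obj (Triangle.mk X.u X.g X.δ)) hT₁ hT₂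
    σN t' hδ
  refine ⟨t, ht₁, ht₂, fun ht' => ?_⟩
  let φ : F.mapTriangle.obj (Triangle.mk X.u X.g X.δ) ⟶ F'.mapTriangle.obj (Triangle.mk X.u X.g X.δ) :=
    { hom₁ := σN, hom₂ := t, hom₃ := t', comm₁ := ht₁, comm₂ := ht₂, comm₃ := hδ }
  exact isIso₂_of_isIso₁₃ φ hT₁ hT₂
    (inferInstanceAs (IsIso ((σ F F' s b).hom.app X.N))) ht'

section FullyFaithful

variable [F.Full] [F.Faithful]

omit [F.IsTriangulated] in
theorem nv_of_fullyFaithful : NV F := fun n m hnm L M f => by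
  obtain ⟨g, rfl⟩ := F.map_surjective f
  rw [hom_eq_zero (win_S n L) (win_S m M) hnm g, F.map_zero]

include s in
theorem eq_zero_of_neg {a b : ℤ} {K L : DerivedCategory.Bounded A} (hK : Win a b K) (X : Dat b L)
    (hn : ∀ φ : (H A b).obj K ⟶ X.N, φ = 0) (d : F.obj K ⟶ F'.obj L) (hd : d ≫ F'.map X.g = 0) :
    d = 0 := by
  obtain ⟨x, hx⟩ : ∃ x : F.obj K ⟶ F'.obj ((S A b).obj X.N), d = x ≫ F'.map X.u :=
    Triangle.coyoneda_exact₂ _ (F'.map_distinguished _ X.hT) d hd
  obtain ⟨y, hy⟩ := F.map_surjective (x ≫ (σ F F' s b).inv.app X.N)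
  have hy0 : y = 0 := by
    refine eq_zero_of_H hK (win_S b X.N) y ?_
    rw [← cancel_mono ((hsIso A b).hom.app X.N), zero_comp]
    exact hn _
  rw [hy0, F.map_zero] at hy
  have hx0 : x = 0 := (cancel_mono ((σ F F' s b).inv.app X.N)).1 (hy.symm.trans zero_comp.symm)
  rw [hx, hx0, zero_comp]

theorem exists_dat_neg (hneg : ∀ X : A, ∃ (N : A) (p : N ⟶ X), Epi p ∧ ∀ f : X ⟶ N, f = 0)
    {a b : ℤ} {K : DerivedCategory.Bounded A} (hK : Win a b K) (Z : A)
    {X₁ X₂ : DerivedCategory.Bounded A} (h₁ : K ⟶ X₁) (h₂ : K ⟶ X₂) {a₁ a₂ : ℤ}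
    (hX₁ : Win a₁ (b - 1) X₁) (hX₂ : Win a₂ (b - 1) X₂) :
    ∃ X : Dat b K, (∀ φ : (H A b).obj K ⟶ X.N, φ = 0) ∧ (∀ φ : Z ⟶ X.N, φ = 0) ∧
      X.u ≫ h₁ = 0 ∧ X.u ≫ h₂ = 0 := by
  obtain ⟨P, u, hu⟩ := exists_admissible hK
  obtain ⟨P₁, p₁, hp₁, e₁⟩ := exists_epi_kill_S hX₁ (u ≫ h₁)
  obtain ⟨P₂, p₂, hp₂, e₂⟩ := exists_epi_kill_S hX₂ (((S A b).map p₁ ≫ u) ≫ h₂)
  let W := P₂ ⊞ ((H A b).obj K ⊞ Z)
  obtain ⟨N, p, hp, hN⟩ := hneg W
  let q : N ⟶ P := (p ≫ biprod.fst) ≫ p₂ ≫ p₁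
  have : Epi q := by
    haveI : Epi (p ≫ (biprod.fst : W ⟶ P₂)) := epi_comp _ _
    haveI : Epi (p₂ ≫ p₁) := epi_comp _ _
    exact epi_comp _ _
  obtain ⟨K', g, δ, hT⟩ := distinguished_cocone_triangle ((S A b).map q ≫ u)
  refine ⟨⟨N, (S A b).map q ≫ u, K', g, δ, hT, ?_⟩, fun φ => ?_, fun φ => ?_, ?_, ?_⟩
  · rw [Functor.map_comp]
    haveI := epi_H_S_map b q
    exact epi_comp _ _
  · change (H A b).obj K ⟶ N at φ
    change φ = 0
    have h := hN (biprod.snd ≫ biprod.fst ≫ φ)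
    have := congrArg (fun t => biprod.inl ≫ biprod.inr ≫ t) h
    simpa using this
  · change Z ⟶ N at φ
    change φ = 0
    have h := hN (biprod.snd ≫ biprod.snd ≫ φ)
    have := congrArg (fun t => biprod.inr ≫ biprod.inr ≫ t) h
    simpa using this
  · show ((S A b).map q ≫ u) ≫ h₁ = 0
    simp only [q, Functor.map_comp, Category.assoc] at e₁ ⊢
    rw [e₁, comp_zero, comp_zero, comp_zero]
  · show ((S A b).map q ≫ u) ≫ h₂ = 0
    simp only [q, Functor.map_comp, Category.assoc] at e₂ ⊢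
    rw [e₂, comp_zero, comp_zero]

/-- A comparison on a window of degrees. -/
structure Good (a b : ℤ) (t : ∀ K, Win a b K → (F.obj K ⟶ F'.obj K)) : Prop where
  natural : ∀ {K L : DerivedCategory.Bounded A} (hK : Win a b K) (hL : Win a b L) (f : K ⟶ L),
    F.map f ≫ t L hL = t K hK ≫ F'.map f
  std : ∀ (n : ℤ) (M : A) (h : Win a b ((S A n).obj M)), a ≤ n → n ≤ b →
    t _ h = (σ F F' s n).hom.app M
  iso : ∀ K hK, IsIso (t K hK)

variable {F F' s}

omit [F.IsTriangulated] [F'.IsTriangulated] [F.Full] [F.Faithful] in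
theorem Good.restrict {a b a' b' : ℤ} {t : ∀ K, Win a b K → (F.obj K ⟶ F'.obj K)} (h : Good F F' s a b t)
    (ha : a ≤ a') (hb : b' ≤ b) :
    Good F F' s a' b' (fun K hK => t K (win_mono ha hb hK)) where
  natural _ _ f := h.natural _ _ f
  std n M _ h₁ h₂ := h.std n M _ (by omega) (by omega)
  iso _ _ := h.iso _ _

theorem good_unique (hneg : ∀ X : A, ∃ (N : A) (p : N ⟶ X), Epi p ∧ ∀ f : X ⟶ N, f = 0) :
    ∀ (d : ℕ) (a b : ℤ), b = a + d → ∀ {t t' : ∀ K, Win a b K → (F.obj K ⟶ F'.obj K)},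
      Good F F' s a b t → Good F F' s a b t' → t = t' := by
  intro d
  induction d with
  | zero =>
    intro a b hb t t' ht ht'
    obtain rfl : a = b := by simpa using hb.symm
    funext K hK
    obtain ⟨M, ⟨e⟩⟩ := exists_iso_S hK
    refine (cancel_mono (F'.map e.hom)).1 ?_
    rw [← ht.natural hK (win_S a M) e.hom, ← ht'.natural hK (win_S a M) e.hom, ht.std a M _ le_rfl le_rfl,
      ht'.std a M _ le_rfl le_rfl]
  | succ d ih =>
    intro a b hb t t' ht ht'
    have hab : a < b := by push_cast at hb; omega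
    have hr := ih a (b - 1) (by push_cast at hb; omega) (ht.restrict le_rfl (by omega))
      (ht'.restrict le_rfl (by omega))
    funext K hK
    obtain ⟨X, hX, -⟩ := exists_dat_neg hneg hK ((H A b).obj K) (0 : K ⟶ (S A (b - 1)).obj ((H A b).obj K))
      (0 : K ⟶ (S A (b - 1)).obj ((H A b).obj K)) (win_S _ _) (win_S _ _)
    refine sub_eq_zero.1 (eq_zero_of_neg F F' s hK X hX _ ?_)
    rw [Preadditive.sub_comp, sub_eq_zero, ← ht.natural hK (win_mono le_rfl (by omega) (X.win hab hK)) X.g,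
      ← ht'.natural hK (win_mono le_rfl (by omega) (X.win hab hK)) X.g]
    exact congrArg (fun x => F.map X.g ≫ x) (congrFun (congrFun hr X.K') (X.win hab hK))

theorem exists_good (hneg : ∀ X : A, ∃ (N : A) (p : N ⟶ X), Epi p ∧ ∀ f : X ⟶ N, f = 0) :
    ∀ (d : ℕ) (a b : ℤ), b = a + d → ∃ t : ∀ K, Win a b K → (F.obj K ⟶ F'.obj K), Good F F' s a b t := by
  intro d
  induction d with
  | zero =>
    intro a b hb
    obtain rfl : a = b := by simpa using hb.symm
    have h : ∀ K, Win a a K → ∃ M, Nonempty (K ≅ (S A a).obj M) := fun K hK => exists_iso_S hK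
    choose M hM using h
    let e := fun K hK => Classical.choice (hM K hK)
    let t : ∀ K, Win a a K → (F.obj K ⟶ F'.obj K) := fun K hK =>
      F.map (e K hK).hom ≫ (σ F F' s a).hom.app (M K hK) ≫ F'.map (e K hK).inv
    refine ⟨t, ⟨fun {K L} hK hL f => ?_, fun n N hN h₁ h₂ => ?_, fun K hK => ?_⟩⟩
    · obtain ⟨φ, hφ⟩ := (S A a).map_surjective ((e K hK).inv ≫ f ≫ (e L hL).hom)
      have h0 := (σ F F' s a).hom.naturality φ
      simp only [Functor.comp_map] at h0
      erw [hφ] at h0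
      simp only [Functor.map_comp, Category.assoc] at h0
      simp only [t, Category.assoc]
      rw [← cancel_mono (F'.map (e L hL).hom), ← cancel_epi (F.map (e K hK).inv)]
      simp only [Category.assoc, Iso.map_inv_hom_id, Category.comp_id, Iso.map_inv_hom_id_assoc]
      erw [Category.comp_id]
      exact h0
    · obtain rfl : a = n := le_antisymm h₁ h₂
      obtain ⟨φ, hφ⟩ := (S A a).map_surjective (e _ hN).hom
      have h0 := (σ F F' s a).hom.naturality φ
      simp only [Functor.comp_map] at h0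
      erw [hφ] at h0
      simp only [t]
      rw [← Category.assoc]
      erw [h0]
      rw [Category.assoc, Iso.map_hom_inv_id]
      erw [Category.comp_id]
    · simp only [t]
      infer_instance
  | succ d ih =>
    intro a b hb
    have hab : a < b := by push_cast at hb; omega
    obtain ⟨t', ht'⟩ := ih a (b - 1) (by push_cast at hb; omega)
    have hstep : ∀ (K : DerivedCategory.Bounded A) (hK : Win a b K) (X : Dat b K),
        ∃ t : F.obj K ⟶ F'.obj K, F.map X.g ≫ t' X.K' (X.win hab hK) = t ≫ F'.map X.g ∧ IsIso t := by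
      intro K hK X
      have hw : Win a (b - 1) ((S A (b - 1)).obj X.N) := win_mono (by omega) le_rfl (win_S (b - 1) X.N)
      have h := ht'.natural (X.win hab hK) hw X.δ'
      rw [ht'.std (b - 1) X.N hw (by omega) le_rfl] at h
      obtain ⟨t, -, h₂, h₃⟩ := exists_step F F' s X (t' X.K' (X.win hab hK)) h
      exact ⟨t, h₂, h₃ (ht'.iso _ _)⟩
    have hnat : ∀ {K L : DerivedCategory.Bounded A} (hK : Win a b K) (hL : Win a b L) (f : K ⟶ L)
        (X : Dat b K) (Y : Dat b L) (tK : F.obj K ⟶ F'.obj K) (tL : F.obj L ⟶ F'.obj L),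
        F.map X.g ≫ t' X.K' (X.win hab hK) = tK ≫ F'.map X.g →
        F.map Y.g ≫ t' Y.K' (Y.win hab hL) = tL ≫ F'.map Y.g →
        (∀ φ : (H A b).obj K ⟶ Y.N, φ = 0) → X.u ≫ f ≫ Y.g = 0 →
        F.map f ≫ tL = tK ≫ F'.map f := by
      intro K L hK hL f X Y tK tL hX hY hn h0
      obtain ⟨f', hf'⟩ : ∃ f' : X.K' ⟶ Y.K', f ≫ Y.g = X.g ≫ f' :=
        Triangle.yoneda_exact₂ _ X.hT (f ≫ Y.g) h0
      refine sub_eq_zero.1 (eq_zero_of_neg F F' s hK Y hn _ ?_)
      rw [Preadditive.sub_comp, sub_eq_zero, Category.assoc, Category.assoc, ← hY, ← F.map_comp_assoc,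
        ← F'.map_comp, hf', F.map_comp, F'.map_comp, Category.assoc,
        ht'.natural (X.win hab hK) (Y.win hab hL) f', reassoc_of% hX]
    have hdat : ∀ K, Win a b K → ∃ X : Dat b K, ∀ φ : (H A b).obj K ⟶ X.N, φ = 0 := by
      intro K hK
      obtain ⟨X, hX, -⟩ := exists_dat_neg hneg hK ((H A b).obj K) (0 : K ⟶ (S A (b - 1)).obj ((H A b).obj K))
        (0 : K ⟶ (S A (b - 1)).obj ((H A b).obj K)) (win_S _ _) (win_S _ _)
      exact ⟨X, hX⟩
    choose X hXn using hdat
    choose t ht₂ hti using fun K hK => hstep K hK (X K hK)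
    have hchar : ∀ (K : DerivedCategory.Bounded A) (hK : Win a b K) (Y : Dat b K),
        (∀ φ : (H A b).obj K ⟶ Y.N, φ = 0) → F.map Y.g ≫ t' Y.K' (Y.win hab hK) = t K hK ≫ F'.map Y.g := by
      intro K hK Y hY
      obtain ⟨W, -, -, hW₁, hW₂⟩ := exists_dat_neg hneg hK ((H A b).obj K) (X K hK).g Y.g
        ((X K hK).win hab hK) (Y.win hab hK)
      obtain ⟨tY, hY₂, -⟩ := hstep K hK Y
      obtain ⟨tW, hW, -⟩ := hstep K hK W
      have e₁ := hnat hK hK (𝟙 K) W (X K hK) tW (t K hK) hW (ht₂ K hK) (hXn K hK)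
        (by rw [Category.id_comp]; exact hW₁)
      have e₂ := hnat hK hK (𝟙 K) W Y tW tY hW hY₂ hY (by rw [Category.id_comp]; exact hW₂)
      simp only [CategoryTheory.Functor.map_id, Category.id_comp, Category.comp_id] at e₁ e₂
      rw [e₁, ← e₂]
      exact hY₂
    have hold : ∀ (K : DerivedCategory.Bounded A) (hK : Win a b K) (hK' : Win a (b - 1) K),
        t K hK = t' K hK' := by
      intro K hK hK'
      refine sub_eq_zero.1 (eq_zero_of_neg F F' s hK (X K hK) (hXn K hK) _ ?_)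
      rw [Preadditive.sub_comp, sub_eq_zero, ← ht₂ K hK, ht'.natural hK' ((X K hK).win hab hK) (X K hK).g]
    refine ⟨t, ⟨fun {K L} hK hL f => ?_, fun n M hM h₁ h₂ => ?_, hti⟩⟩
    · obtain ⟨Y, hY, hYK, -⟩ := exists_dat_neg hneg hL ((H A b).obj K)
        (0 : L ⟶ (S A (b - 1)).obj ((H A b).obj K)) (0 : L ⟶ (S A (b - 1)).obj ((H A b).obj K))
        (win_S _ _) (win_S _ _)
      obtain ⟨W, hWn, -, hW, -⟩ := exists_dat_neg hneg hK ((H A b).obj K) (f ≫ Y.g) (f ≫ Y.g)
        (Y.win hab hL) (Y.win hab hL)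
      exact hnat hK hL f W Y _ _ (hchar K hK W hWn) (hchar L hL Y hY) hYK hW
    · rcases h₂.lt_or_eq with hn | rfl
      · have hM' : Win a (b - 1) ((S A n).obj M) := win_mono h₁ (by omega) (win_S n M)
        rw [hold _ hM hM', ht'.std n M hM' h₁ (by omega)]
      · let Y := X _ hM
        obtain ⟨L, ⟨e⟩⟩ := exists_iso_S (Y.win (a := n - 1) (by omega) (win_mono (by omega) le_rfl (win_S n M)))
        refine sub_eq_zero.1 (eq_zero_of_neg F F' s hM Y (hXn _ hM) _ ?_)
        rw [Preadditive.sub_comp, sub_eq_zero, ← ht₂ _ hM]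
        have hL : Win a (n - 1) ((S A (n - 1)).obj L) := win_mono (by omega) le_rfl (win_S (n - 1) L)
        have e₁ := ht'.natural (Y.win hab hM) hL e.hom
        rw [ht'.std (n - 1) L hL (by omega) le_rfl] at e₁
        have e₂ := σ_ext F F' s (nv_of_fullyFaithful F) n (Y.g ≫ e.hom)
        rw [← cancel_mono (F'.map e.hom), Category.assoc, ← e₁, ← F.map_comp_assoc]
        refine e₂.trans ?_
        rw [F'.map_comp]
        exact (Category.assoc _ _ _).symm

/-- The comparison isomorphism. -/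
theorem nonempty_iso (hneg : ∀ X : A, ∃ (N : A) (p : N ⟶ X), Epi p ∧ ∀ f : X ⟶ N, f = 0)
    (s : DEquiv.singleB A ⋙ F ≅ DEquiv.singleB A ⋙ F') : Nonempty (F ≅ F') := by
  choose t ht using fun k : ℕ => exists_good (F := F) (F' := F') (s := s) hneg (2 * k) (-(k : ℤ)) k
    (by push_cast; omega)
  choose k hk using fun K : DerivedCategory.Bounded A => exists_win K
  have hmono : ∀ {i j : ℕ} (hij : i ≤ j) (K : DerivedCategory.Bounded A) (hK : Win (-(i : ℤ)) i K),
      t i K hK = t j K (win_mono (by omega) (by omega) hK) := fun {i j} hij K hK =>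
    congrFun (congrFun (good_unique hneg (2 * i) (-(i : ℤ)) i (by push_cast; omega) (ht i)
      ((ht j).restrict (a' := -(i : ℤ)) (b' := i) (by omega) (by omega))) K) hK
  haveI : ∀ K, IsIso (t (k K) K (hk K)) := fun K => (ht (k K)).iso K (hk K)
  refine ⟨NatIso.ofComponents (fun K => asIso (t (k K) K (hk K))) fun {K L} f => ?_⟩
  change F.map f ≫ t (k L) L (hk L) = t (k K) K (hk K) ≫ F'.map f
  rw [hmono (le_max_right (k K) (k L)) L, hmono (le_max_left (k K) (k L)) K]
  exact (ht _).natural _ _ f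

end FullyFaithful

end DEquivLib
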