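import Groth.Agent.DEquivLib.Extend

/-!
# Siblings: isomorphic values, and full faithfulness
-/

set_option autoImplicit false

universe w v u v' u'

open CategoryTheory CategoryTheory.Limits CategoryTheory.Pretriangulated DerivedCategory

namespace DEquivLib

variable {A : Type u} [Category.{v} A] [Abelian A] [HasDerivedCategory.{w} A]
  {D : Type u'} [Category.{v'} D] [Preadditive D] [HasZeroObject D] [HasShift D ℤ]
  [∀ n : ℤ, (shiftFunctor D n).Additive] [Pretriangulated D]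
  (F F' : DerivedCategory.Bounded A ⥤ D) [F.CommShift ℤ] [F'.CommShift ℤ]
  [F.IsTriangulated] [F'.IsTriangulated]
  (s : DEquiv.singleB A ⋙ F ≅ DEquiv.singleB A ⋙ F')

omit [F.IsTriangulated] in
theorem nv_of_negExt (h : ∀ (X Y : A) (q : ℤ), q < 0 → ∀ f : F.obj ((DEquiv.singleB A).obj X) ⟶
    (shiftFunctor D q).obj (F.obj ((DEquiv.singleB A).obj Y)), f = 0) : NV F := by
  intro n m hnm L M f
  let X := F.obj ((DEquiv.singleB A).obj L)
  let Y := F.obj ((DEquiv.singleB A).obj M)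
  let g : X⟦-n⟧ ⟶ Y⟦-m⟧ :=
    (F.commShiftIso (-n)).inv.app _ ≫ f ≫ (F.commShiftIso (-m)).hom.app _
  have hg : g⟦n⟧' = 0 := by
    rw [← cancel_epi ((shiftFunctorCompIsoId D (-n) n (neg_add_cancel n)).inv.app X),
      ← cancel_mono ((shiftFunctorAdd' D (-m) n (-m + n) rfl).inv.app Y), comp_zero, zero_comp]
    exact h L M (-m + n) (by omega) _
  have hg0 : g = 0 := (shiftFunctor D n).map_injective (hg.trans ((shiftFunctor D n).map_zero _ _).symm)
  refine (cancel_epi ((F.commShiftIso (-n)).inv.app ((DEquiv.singleB A).obj L))).1 ?_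
  refine (cancel_mono ((F.commShiftIso (-m)).hom.app ((DEquiv.singleB A).obj M))).1 ?_
  exact (Category.assoc _ _ _).trans (hg0.trans (by rw [comp_zero, zero_comp]))

include s in
theorem exists_iso_aux (hNV : NV F) : ∀ (d : ℕ) (a b : ℤ), b = a + d → ∀ K, Win a b K →
    ∃ t : F.obj K ⟶ F'.obj K, IsIso t ∧ ∃ (P : A) (u : (S A b).obj P ⟶ K), Epi ((H A b).map u) ∧
      F.map u ≫ t = (σ F F' s b).hom.app P ≫ F'.map u := by
  intro d
  induction d with
  | zero =>
    intro a b hb K hK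
    obtain rfl : a = b := by simpa using hb.symm
    obtain ⟨M, ⟨e⟩⟩ := exists_iso_S hK
    refine ⟨F.map e.hom ≫ (σ F F' s a).hom.app M ≫ F'.map e.inv, inferInstance, M, e.inv, inferInstance, ?_⟩
    rw [← F.map_comp_assoc, e.inv_hom_id, F.map_id, Category.id_comp]
  | succ d ih =>
    intro a b hb K hK
    have hab : a < b := by push_cast at hb; omega
    obtain ⟨X⟩ := exists_dat hK
    obtain ⟨t', ht'i, P', u', hu', ht'⟩ := ih a (b - 1) (by push_cast at hb; omega) X.K' (X.win hab hK)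
    let σN : F.obj ((S A (b - 1)).obj X.N) ⟶ F'.obj ((S A (b - 1)).obj X.N) := (σ F F' s (b - 1)).hom.app X.N
    have hobs : F.map X.δ' ≫ σN = t' ≫ F'.map X.δ' := by
      obtain ⟨K'', g', δ'', hT'⟩ := distinguished_cocone_triangle u'
      have hK'' : Win (a - 1) (b - 1 - 1) K'' :=
        win_cone (by omega) (win_mono (by omega) le_rfl (X.win hab hK)) u' g' δ'' hT'
      have h0 : F.map u' ≫ (F.map X.δ' ≫ σN - t' ≫ F'.map X.δ') = 0 := by
        obtain ⟨φ, hφ⟩ := (S A (b - 1)).map_surjective (u' ≫ X.δ')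
        have h1 := (σ F F' s (b - 1)).hom.naturality φ
        simp only [Functor.comp_map] at h1
        erw [hφ] at h1
        rw [Preadditive.comp_sub, reassoc_of% ht', ← F'.map_comp, ← F.map_comp_assoc, sub_eq_zero]
        exact h1
      obtain ⟨x, hx⟩ : ∃ x : F.obj K'' ⟶ F'.obj ((S A (b - 1)).obj X.N),
          F.map X.δ' ≫ σN - t' ≫ F'.map X.δ' = F.map g' ≫ x :=
        Triangle.yoneda_exact₂ _ (F.map_distinguished _ hT') _ h0
      have hx0 : x = 0 := (cancel_mono ((σ F F' s (b - 1)).inv.app X.N)).1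
        ((nv_left F hNV hK'' (by omega) X.N _).trans zero_comp.symm)
      rw [hx0, comp_zero, sub_eq_zero] at hx
      exact hx
    obtain ⟨t, ht₁, -, hti⟩ := exists_step F F' s X t' hobs
    exact ⟨t, hti ht'i, X.N, X.u, X.epi, ht₁⟩

include s in
theorem nonempty_obj_iso (hNV : NV F) (K : DerivedCategory.Bounded A) : Nonempty (F.obj K ≅ F'.obj K) := by
  obtain ⟨k, hk⟩ := exists_win K
  obtain ⟨t, ht, -⟩ := exists_iso_aux F F' s hNV (2 * k) (-(k : ℤ)) k (by push_cast; omega) K hk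
  exact ⟨asIso t⟩

/-- Five lemma for the effect of a triangulated functor on morphisms: the target variable. -/
theorem bijective_map_target {X : DerivedCategory.Bounded A} {K₁ K₂ K₃ : DerivedCategory.Bounded A}
    (f : K₁ ⟶ K₂) (g : K₂ ⟶ K₃) (h : K₃ ⟶ K₁⟦(1 : ℤ)⟧)
    (hT : Triangle.mk f g h ∈ distTriang (DerivedCategory.Bounded A))
    (h₀ : Function.Surjective (F'.map : (X ⟶ K₃⟦(-1 : ℤ)⟧) → _))
    (h₁ : Function.Bijective (F'.map : (X ⟶ K₁) → _))
    (h₃ : Function.Bijective (F'.map : (X ⟶ K₃) → _))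
    (h₄ : Function.Injective (F'.map : (X ⟶ K₁⟦(1 : ℤ)⟧) → _)) :
    Function.Bijective (F'.map : (X ⟶ K₂) → _) := by
  have hT' := F'.map_distinguished _ hT
  have hinj : ∀ x : X ⟶ K₂, F'.map x = 0 → x = 0 := by
    intro x hx
    have h3 : x ≫ g = 0 := h₃.1 (by rw [F'.map_comp, hx, zero_comp, F'.map_zero])
    obtain ⟨x₁, rfl⟩ : ∃ x₁ : X ⟶ K₁, x = x₁ ≫ f := Triangle.coyoneda_exact₂ _ hT x h3
    have hinv := inv_rot_of_distTriang _ hT
    have hinv' := F'.map_distinguished _ hinv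
    obtain ⟨z, hz⟩ : ∃ z : F'.obj X ⟶ F'.obj (K₃⟦(-1 : ℤ)⟧),
        F'.map x₁ = z ≫ F'.map (Triangle.mk f g h).invRotate.mor₁ :=
      Triangle.coyoneda_exact₂ _ hinv' (F'.map x₁) ((F'.map_comp x₁ f).symm.trans hx)
    obtain ⟨w, rfl⟩ := h₀ z
    rw [h₁.1 (hz.trans (F'.map_comp _ _).symm)]
    exact (Category.assoc _ _ _).trans ((congrArg (w ≫ ·) (comp_distTriang_mor_zero₁₂ _ hinv)).trans comp_zero)
  refine ⟨fun x x' hxx' => sub_eq_zero.1 (hinj _ (by rw [F'.map_sub, hxx', sub_self])), fun y => ?_⟩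
  obtain ⟨x₃, hx₃⟩ := h₃.2 (y ≫ F'.map g)
  have hx₃h : x₃ ≫ h = 0 := by
    refine h₄ ?_
    rw [F'.map_comp, hx₃, Category.assoc, ← F'.map_comp,
      show g ≫ h = 0 from comp_distTriang_mor_zero₂₃ _ hT, F'.map_zero, F'.map_zero, comp_zero]
  obtain ⟨x, hx⟩ : ∃ x : X ⟶ K₂, x₃ = x ≫ g := Triangle.coyoneda_exact₃ _ hT x₃ hx₃h
  obtain ⟨y₁, hy₁⟩ : ∃ y₁ : F'.obj X ⟶ F'.obj K₁, y - F'.map x = y₁ ≫ F'.map f :=
    Triangle.coyoneda_exact₂ _ hT' (y - F'.map x) (by
      change (y - F'.map x) ≫ F'.map g = 0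
      rw [Preadditive.sub_comp, ← F'.map_comp, ← hx, hx₃, sub_self])
  obtain ⟨x₁, rfl⟩ := h₁.2 y₁
  exact ⟨x + x₁ ≫ f, by rw [F'.map_add, F'.map_comp, ← hy₁]; abel⟩

/-- Five lemma for the effect of a triangulated functor on morphisms: the source variable. -/
theorem bijective_map_source {Y : DerivedCategory.Bounded A} {K₁ K₂ K₃ : DerivedCategory.Bounded A}
    (f : K₁ ⟶ K₂) (g : K₂ ⟶ K₃) (h : K₃ ⟶ K₁⟦(1 : ℤ)⟧)
    (hT : Triangle.mk f g h ∈ distTriang (DerivedCategory.Bounded A))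
    (h₀ : Function.Surjective (F'.map : (K₁⟦(1 : ℤ)⟧ ⟶ Y) → _))
    (h₁ : Function.Bijective (F'.map : (K₁ ⟶ Y) → _))
    (h₃ : Function.Bijective (F'.map : (K₃ ⟶ Y) → _))
    (h₄ : Function.Injective (F'.map : (K₃⟦(-1 : ℤ)⟧ ⟶ Y) → _)) :
    Function.Bijective (F'.map : (K₂ ⟶ Y) → _) := by
  have hT' := F'.map_distinguished _ hT
  have hinj : ∀ x : K₂ ⟶ Y, F'.map x = 0 → x = 0 := by
    intro x hx
    have h1 : f ≫ x = 0 := h₁.1 (by rw [F'.map_comp, hx, comp_zero, F'.map_zero])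
    obtain ⟨x₃, rfl⟩ : ∃ x₃ : K₃ ⟶ Y, x = g ≫ x₃ := Triangle.yoneda_exact₂ _ hT x h1
    obtain ⟨z, hz⟩ : ∃ z : (F'.obj K₁)⟦(1 : ℤ)⟧ ⟶ F'.obj Y,
        F'.map x₃ = (F'.map h ≫ (F'.commShiftIso (1 : ℤ)).hom.app K₁) ≫ z :=
      Triangle.yoneda_exact₃ _ hT' (F'.map x₃) ((F'.map_comp g x₃).symm.trans hx)
    obtain ⟨w, hw⟩ := h₀ ((F'.commShiftIso (1 : ℤ)).hom.app K₁ ≫ z)
    rw [h₃.1 (show F'.map x₃ = F'.map (h ≫ w) by rw [F'.map_comp, hw, hz, Category.assoc]), ← Category.assoc,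
      show g ≫ h = 0 from comp_distTriang_mor_zero₂₃ _ hT, zero_comp]
  refine ⟨fun x x' hxx' => sub_eq_zero.1 (hinj _ (by rw [F'.map_sub, hxx', sub_self])), fun y => ?_⟩
  obtain ⟨x₁, hx₁⟩ := h₁.2 (F'.map f ≫ y)
  have hinv := inv_rot_of_distTriang _ hT
  have hx₁h : (Triangle.mk f g h).invRotate.mor₁ ≫ x₁ = 0 := by
    refine h₄ ?_
    refine (F'.map_comp _ _).trans ((congrArg (_ ≫ ·) hx₁).trans ((Category.assoc _ _ _).symm.trans ?_))
    refine (congrArg (· ≫ y) ((F'.map_comp _ _).symm.trans (congrArg F'.map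
      (comp_distTriang_mor_zero₁₂ _ hinv)))).trans ?_
    exact ((congrArg (· ≫ y) (F'.map_zero _ _)).trans zero_comp).trans (F'.map_zero _ _).symm
  obtain ⟨x, hx⟩ : ∃ x : K₂ ⟶ Y, x₁ = f ≫ x := Triangle.yoneda_exact₂ _ hinv x₁ hx₁h
  obtain ⟨y₃, hy₃⟩ : ∃ y₃ : F'.obj K₃ ⟶ F'.obj Y, y - F'.map x = F'.map g ≫ y₃ :=
    Triangle.yoneda_exact₂ _ hT' (y - F'.map x) (by
      change F'.map f ≫ (y - F'.map x) = 0
      rw [Preadditive.comp_sub, ← F'.map_comp, ← hx, hx₁, sub_self])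
  obtain ⟨x₃, rfl⟩ := h₃.2 y₃
  exact ⟨x + g ≫ x₃, by rw [F'.map_add, F'.map_comp, ← hy₃]; abel⟩

variable [F.Full] [F.Faithful]

include s in
theorem σ_natural : ∀ (q : ℕ) (n m : ℤ), n = m + q → ∀ {M L : A} (g : (S A n).obj M ⟶ (S A m).obj L),
    F.map g ≫ (σ F F' s m).hom.app L = (σ F F' s n).hom.app M ≫ F'.map g := by
  intro q
  induction q using Nat.strong_induction_on with
  | _ q ih =>
    intro n m hn M L g
    match q, ih, hn with
    | 0, _, hn =>
      obtain rfl : n = m := by simpa using hn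
      obtain ⟨φ, rfl⟩ := (S A n).map_surjective g
      exact (σ F F' s n).hom.naturality φ
    | 1, _, hn =>
      obtain rfl : m = n - 1 := by omega
      exact σ_ext F F' s (nv_of_fullyFaithful F) n g
    | q + 2, ih, hn =>
      push_cast at hn
      obtain ⟨P, p, hp, hpg⟩ := exists_epi_kill_S (win_mono (a' := m) le_rfl (b' := n - 1) (by omega) (win_S m L)) g
      obtain ⟨C, c, δ, hT⟩ := distinguished_cocone_triangle ((S A n).map p)
      haveI := epi_H_S_map n p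
      have hC := win_cone (a := n - 1) (by omega) (win_mono (by omega) le_rfl (win_S n M)) _ c δ hT
      obtain ⟨Q, ⟨e⟩⟩ := exists_iso_S hC
      obtain ⟨g', hg'⟩ : ∃ g' : C ⟶ (S A m).obj L, g = c ≫ g' := Triangle.yoneda_exact₂ _ hT g hpg
      have e₁ := σ_ext F F' s (nv_of_fullyFaithful F) n (c ≫ e.hom)
      have e₂ := ih (q + 1) (by omega) (n - 1) m (by push_cast; omega) (e.inv ≫ g')
      have hg'' : g = (c ≫ e.hom) ≫ (e.inv ≫ g') := by simp [hg']
      rw [hg'', F.map_comp, F'.map_comp, Category.assoc, e₂, reassoc_of% e₁]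

include s in
theorem fullyFaithful_sibling : F'.Full ∧ F'.Faithful := by
  have hsingle : ∀ (n m : ℤ) (M L : A),
      Function.Bijective (F'.map : ((S A n).obj M ⟶ (S A m).obj L) → _) := by
    intro n m M L
    by_cases hnm : n < m
    · have h0 : ∀ y : F'.obj ((S A n).obj M) ⟶ F'.obj ((S A m).obj L), y = 0 := fun y =>
        (cancel_epi ((σ F F' s n).hom.app M)).1 ((cancel_mono ((σ F F' s m).inv.app L)).1
          ((nv_of_fullyFaithful F n m hnm M L _).trans (by rw [comp_zero, zero_comp])))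
      exact ⟨fun x x' _ => (hom_eq_zero (win_S n M) (win_S m L) hnm x).trans
        (hom_eq_zero (win_S n M) (win_S m L) hnm x').symm, fun y => ⟨0, by rw [F'.map_zero, h0 y]⟩⟩
    · obtain ⟨q, hq⟩ : ∃ q : ℕ, n = m + q := ⟨(n - m).toNat, by omega⟩
      refine ⟨fun x x' hxx' => F.map_injective ?_, fun y => ?_⟩
      · rw [← cancel_mono ((σ F F' s m).hom.app L)]
        exact (σ_natural F F' s q n m hq x).trans ((congrArg _ hxx').trans (σ_natural F F' s q n m hq x').symm)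
      · obtain ⟨x, hx⟩ := F.map_surjective ((σ F F' s n).hom.app M ≫ y ≫ (σ F F' s m).inv.app L)
        refine ⟨x, (cancel_epi ((σ F F' s n).hom.app M)).1 ((σ_natural F F' s q n m hq x).symm.trans ?_)⟩
        rw [hx]
        simp only [Category.assoc, Iso.inv_hom_id_app]
        exact congrArg _ (Category.comp_id _)
  have hshift : ∀ {X Y Y' : DerivedCategory.Bounded A}, (Y ≅ Y') →
      Function.Bijective (F'.map : (X ⟶ Y) → _) → Function.Bijective (F'.map : (X ⟶ Y') → _) := by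
    intro X Y Y' e h
    refine ⟨fun x x' hxx' => (cancel_mono e.inv).1 (h.1 (by rw [F'.map_comp, F'.map_comp, hxx'])), fun y => ?_⟩
    obtain ⟨x, hx⟩ := h.2 (y ≫ F'.map e.inv)
    exact ⟨x ≫ e.hom, by rw [F'.map_comp, hx, Category.assoc, Iso.map_inv_hom_id, Category.comp_id]⟩
  have hshift' : ∀ {X X' Y : DerivedCategory.Bounded A}, (X ≅ X') →
      Function.Bijective (F'.map : (X ⟶ Y) → _) → Function.Bijective (F'.map : (X' ⟶ Y) → _) := by
    intro X X' Y e h
    refine ⟨fun x x' hxx' => (cancel_epi e.hom).1 (h.1 (by rw [F'.map_comp, F'.map_comp, hxx'])), fun y => ?_⟩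
    obtain ⟨x, hx⟩ := h.2 (F'.map e.hom ≫ y)
    exact ⟨e.inv ≫ x, by rw [F'.map_comp, hx, Iso.map_inv_hom_id_assoc]⟩
  have htgt : ∀ (n : ℤ) (M : A) (K : DerivedCategory.Bounded A) (k : ℤ),
      Function.Bijective (F'.map : ((S A n).obj M ⟶ K⟦k⟧) → _) := by
    intro n M K
    obtain ⟨c, hc⟩ := exists_win K
    refine devissage (fun K => ∀ k : ℤ, Function.Bijective (F'.map : ((S A n).obj M ⟶ K⟦k⟧) → _))
      (fun e h k => hshift ((shiftFunctor _ k).mapIso e) (h k)) ?_ (2 * c) (-(c : ℤ)) K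
      (win_mono le_rfl (by omega) hc) (fun j _ _ L k => ?_)
    · intro K₁ K₂ K₃ f g h hT h₁ h₃ k
      have hT' := Triangle.shift_distinguished _ hT k
      exact bijective_map_target F' _ _ _ hT'
        (hshift ((shiftFunctorAdd' _ k (-1) (k + -1) rfl).app K₃) (h₃ (k + -1))).2 (h₁ k) (h₃ k)
        (hshift ((shiftFunctorAdd' _ k 1 (k + 1) rfl).app K₁) (h₁ (k + 1))).1
    · exact hshift ((shiftFunctorAdd' _ (-j) k (-(j - k)) (by omega)).app _) (hsingle n (j - k) M L)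
  have hall : ∀ (K L : DerivedCategory.Bounded A) (k : ℤ),
      Function.Bijective (F'.map : (K⟦k⟧ ⟶ L) → _) := by
    intro K L
    obtain ⟨c, hc⟩ := exists_win K
    refine devissage (fun K => ∀ k : ℤ, Function.Bijective (F'.map : (K⟦k⟧ ⟶ L) → _))
      (fun e h k => hshift' ((shiftFunctor _ k).mapIso e) (h k)) ?_ (2 * c) (-(c : ℤ)) K
      (win_mono le_rfl (by omega) hc) (fun j _ _ M k => ?_)
    · intro K₁ K₂ K₃ f g h hT h₁ h₃ k
      have hT' := Triangle.shift_distinguished _ hT k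
      exact bijective_map_source F' _ _ _ hT'
        (hshift' ((shiftFunctorAdd' _ k 1 (k + 1) rfl).app K₁) (h₁ (k + 1))).2 (h₁ k) (h₃ k)
        (hshift' ((shiftFunctorAdd' _ k (-1) (k + -1) rfl).app K₃) (h₃ (k + -1))).1
    · exact hshift' ((shiftFunctorAdd' _ (-j) k (-(j - k)) (by omega)).app _)
        (hshift ((shiftFunctorZero _ ℤ).app L) (htgt (j - k) M L 0))
  have h : ∀ K L : DerivedCategory.Bounded A, Function.Bijective (F'.map : (K ⟶ L) → _) := fun K L =>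
    hshift' ((shiftFunctorZero _ ℤ).app K) (hall K L 0)
  exact ⟨⟨fun {K L} => (h K L).2⟩, ⟨fun {K L} => (h K L).1⟩⟩

end DEquivLib
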