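import Groth.Agent.DEquivLib.Window

/-!
# Two functors agreeing on the heart: the comparison on shifted objects
-/

set_option autoImplicit false

universe w v u v' u'

open CategoryTheory CategoryTheory.Limits CategoryTheory.Pretriangulated DerivedCategory

namespace DEquivLib

variable {A : Type u} [Category.{v} A] [Abelian A] [HasDerivedCategory.{w} A]

instance : (DEquiv.singleB A).Full :=
  Functor.Full.of_comp_faithful_iso (H := DerivedCategory.singleFunctor A 0)
    (ObjectProperty.liftCompιIso _ (DerivedCategory.singleFunctor A 0) _ :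
      DEquiv.singleB A ⋙ DerivedCategory.Bounded.ι ≅ _)

instance : (DEquiv.singleB A).Faithful :=
  Functor.Faithful.of_comp_iso (H := DerivedCategory.singleFunctor A 0)
    (ObjectProperty.liftCompιIso _ (DerivedCategory.singleFunctor A 0) _ :
      DEquiv.singleB A ⋙ DerivedCategory.Bounded.ι ≅ _)

variable (A) in
/-- Shifting an object in degree `n` gives one in degree `n - 1`. -/
noncomputable def shiftS (n : ℤ) : S A n ⋙ shiftFunctor (DerivedCategory.Bounded A) (1 : ℤ) ≅ S A (n - 1) :=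
  Functor.associator _ _ _ ≪≫
    Functor.isoWhiskerLeft _ (shiftFunctorAdd' (DerivedCategory.Bounded A) (-n) 1 (-(n - 1)) (by omega)).symm

theorem win_middle {a b : ℤ} {K₁ K₂ K₃ : DerivedCategory.Bounded A} (f : K₁ ⟶ K₂) (g : K₂ ⟶ K₃)
    (h : K₃ ⟶ K₁⟦(1 : ℤ)⟧) (hT : Triangle.mk f g h ∈ distTriang (DerivedCategory.Bounded A))
    (h₁ : Win a b K₁) (h₃ : Win a b K₃) : Win a b K₂ := by
  have hT' := DerivedCategory.Bounded.ι.map_distinguished _ hT
  let T := DerivedCategory.Bounded.ι.mapTriangle.obj (Triangle.mk f g h)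
  have hz : ∀ i, i < a ∨ b < i → IsZero ((H A i).obj K₂) := fun i hi =>
    (DerivedCategory.HomologySequence.exact₂ T hT' i).isZero_X₂ ((isZero_H h₁ hi).eq_of_src _ _)
      ((isZero_H h₃ hi).eq_of_tgt _ _)
  exact ⟨(DerivedCategory.isGE_iff _ a).2 fun i hi => hz i (Or.inl hi),
    (DerivedCategory.isLE_iff _ b).2 fun i hi => hz i (Or.inr hi)⟩

/-- Devissage into objects concentrated in one degree. -/
theorem devissage (P : DerivedCategory.Bounded A → Prop)
    (hiso : ∀ {K L : DerivedCategory.Bounded A}, (K ≅ L) → P K → P L)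
    (hext : ∀ {K₁ K₂ K₃ : DerivedCategory.Bounded A} (f : K₁ ⟶ K₂) (g : K₂ ⟶ K₃) (h : K₃ ⟶ K₁⟦(1 : ℤ)⟧),
      Triangle.mk f g h ∈ distTriang (DerivedCategory.Bounded A) → P K₁ → P K₃ → P K₂) :
    ∀ (d : ℕ) (a : ℤ) (K : DerivedCategory.Bounded A), Win a (a + d) K →
      (∀ n, a ≤ n → n ≤ a + d → ∀ M : A, P ((S A n).obj M)) → P K := by
  intro d
  induction d with
  | zero =>
    intro a K hK hP
    obtain ⟨M, ⟨e⟩⟩ := exists_iso_S (n := a) (by simpa using hK)
    exact hiso e.symm (hP a le_rfl (by simp) M)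
  | succ d ih =>
    intro a K hK hP
    obtain ⟨N, u, hu⟩ := exists_admissible hK
    obtain ⟨K', g, δ, hT⟩ := distinguished_cocone_triangle u
    have hK' := win_cone (by push_cast; omega) hK u g δ hT
    refine hext u g δ hT (hP _ (by push_cast; omega) le_rfl N) (ih a K' ?_ fun n h₁ h₂ => hP n h₁ (by push_cast; omega))
    simpa [add_sub_assoc] using hK'

variable {D : Type u'} [Category.{v'} D] [Preadditive D] [HasZeroObject D] [HasShift D ℤ]
  [∀ n : ℤ, (shiftFunctor D n).Additive] [Pretriangulated D]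
  (F F' : DerivedCategory.Bounded A ⥤ D) [F.CommShift ℤ] [F'.CommShift ℤ]

variable {F F'} in
/-- Transport of a map along a shift. -/
noncomputable def τ (n : ℤ) {X : DerivedCategory.Bounded A} (t : F.obj X ⟶ F'.obj X) :
    F.obj (X⟦n⟧) ⟶ F'.obj (X⟦n⟧) :=
  (F.commShiftIso n).hom.app X ≫ t⟦n⟧' ≫ (F'.commShiftIso n).inv.app X

theorem τ_natural (n : ℤ) {X Y : DerivedCategory.Bounded A} (f : X ⟶ Y) (t : F.obj X ⟶ F'.obj X)
    (t' : F.obj Y ⟶ F'.obj Y) (h : F.map f ≫ t' = t ≫ F'.map f) :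
    F.map (f⟦n⟧') ≫ τ n t' = τ n t ≫ F'.map (f⟦n⟧') := by
  simp only [τ, Category.assoc]
  rw [F.commShiftIso_hom_naturality_assoc, ← Functor.map_comp_assoc, h, Functor.map_comp_assoc]
  congr 2
  exact (F'.commShiftIso n).inv.naturality f

theorem τ_add (m n p : ℤ) (h : m + n = p) {X : DerivedCategory.Bounded A} (t : F.obj X ⟶ F'.obj X) :
    F.map ((shiftFunctorAdd' _ m n p h).hom.app X) ≫ τ n (τ m t) =
      τ p t ≫ F'.map ((shiftFunctorAdd' _ m n p h).hom.app X) := by
  have e := NatTrans.congr_app (congr_arg Iso.hom (F.commShiftIso_add' h)) X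
  have e' := NatTrans.congr_app (congr_arg Iso.hom (F'.commShiftIso_add' h)) X
  rw [Functor.CommShift.isoAdd'_hom_app] at e e'
  rw [← cancel_mono ((F'.commShiftIso n).hom.app (X⟦m⟧) ≫ ((F'.commShiftIso m).hom.app X)⟦n⟧' ≫
    (shiftFunctorAdd' D m n p h).inv.app (F'.obj X))]
  simp only [τ, Category.assoc, Functor.map_comp, Iso.inv_hom_id_app_assoc, Functor.comp_obj]
  have e3 : (t⟦m⟧')⟦n⟧' ≫ (shiftFunctorAdd' D m n p h).inv.app (F'.obj X) =
      (shiftFunctorAdd' D m n p h).inv.app (F.obj X) ≫ t⟦p⟧' :=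
    (shiftFunctorAdd' D m n p h).inv.naturality t
  rw [← (shiftFunctor D n).map_comp_assoc ((F'.commShiftIso m).inv.app X), Iso.inv_hom_id_app]
  simp only [Functor.comp_obj, CategoryTheory.Functor.map_id, Category.id_comp, ← e']
  rw [e3, Iso.inv_hom_id_app]
  simp only [Functor.comp_obj, Category.comp_id]
  rw [e]
  simp only [Category.assoc]

variable (s : DEquiv.singleB A ⋙ F ≅ DEquiv.singleB A ⋙ F')

/-- The comparison on objects in degree `n`. -/
noncomputable def σ (n : ℤ) : S A n ⋙ F ≅ S A n ⋙ F' :=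
  NatIso.ofComponents
    (fun M => (F.commShiftIso (-n)).app _ ≪≫ (shiftFunctor D (-n)).mapIso (s.app M) ≪≫
      ((F'.commShiftIso (-n)).app _).symm)
    (fun {M M'} f => by
      have := τ_natural F F' (-n) ((DEquiv.singleB A).map f) (s.hom.app M) (s.hom.app M') (s.hom.naturality f)
      exact this)

theorem σ_hom_app (n : ℤ) (M : A) : (σ F F' s n).hom.app M = τ (-n) (s.hom.app M) := rfl

theorem σ_shift (n : ℤ) (M : A) :
    F.map ((shiftS A n).hom.app M) ≫ (σ F F' s (n - 1)).hom.app M =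
      τ 1 ((σ F F' s n).hom.app M) ≫ F'.map ((shiftS A n).hom.app M) := by
  have h := τ_add F F' (-n) 1 (-(n - 1)) (by omega) (s.hom.app M)
  rw [σ_hom_app, σ_hom_app]
  have e : (shiftS A n).hom.app M =
      (shiftFunctorAdd' (DerivedCategory.Bounded A) (-n) 1 (-(n - 1)) (by omega)).inv.app _ :=
    (Category.id_comp _)
  rw [e]
  refine (cancel_mono (F'.map ((shiftFunctorAdd' (DerivedCategory.Bounded A) (-n) 1 (-(n - 1))
    (by omega)).hom.app ((DEquiv.singleB A).obj M)))).1 ?_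
  rw [Category.assoc, Category.assoc, ← F'.map_comp, Iso.inv_hom_id_app, ← h, ← Category.assoc, ← F.map_comp,
    Iso.inv_hom_id_app]
  erw [F'.map_id, Category.comp_id, F.map_id, Category.id_comp]

/-- No maps from lower to higher degrees between the images. -/
def NV : Prop :=
  ∀ (n m : ℤ), n < m → ∀ (L M : A) (f : F.obj ((S A n).obj L) ⟶ F.obj ((S A m).obj M)), f = 0

variable [F.IsTriangulated] [F'.IsTriangulated]

/-- The comparison commutes with extensions. -/
theorem σ_ext (hNV : NV F) (n : ℤ) {M L : A} (g : (S A n).obj M ⟶ (S A (n - 1)).obj L) :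
    F.map g ≫ (σ F F' s (n - 1)).hom.app L = (σ F F' s n).hom.app M ≫ F'.map g := by
  let g' : (S A n).obj M ⟶ ((S A n).obj L)⟦(1 : ℤ)⟧ := g ≫ (shiftS A n).inv.app L
  obtain ⟨Y, i, p, hT⟩ := distinguished_cocone_triangle₂ g'
  obtain ⟨N, ⟨e⟩⟩ := exists_iso_S (win_middle i p g' hT (win_S n L) (win_S n M))
  obtain ⟨j, hj⟩ := (S A n).map_surjective (i ≫ e.hom)
  obtain ⟨q, hq⟩ := (S A n).map_surjective (e.inv ≫ p)
  have hT₂ : Triangle.mk ((S A n).map j) ((S A n).map q) g' ∈ distTriang (DerivedCategory.Bounded A) := by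
    refine isomorphic_distinguished _ hT _ (Triangle.isoMk _ _ (Iso.refl _) e.symm (Iso.refl _) ?_ ?_ ?_)
    · show (S A n).map j ≫ e.inv = 𝟙 _ ≫ i
      rw [hj, Category.assoc, Iso.hom_inv_id, Category.comp_id]
      exact (Category.id_comp _).symm
    · show (S A n).map q ≫ 𝟙 _ = e.inv ≫ p
      rw [hq]
      exact Category.comp_id _
    · show g' ≫ (𝟙 ((S A n).obj L))⟦(1 : ℤ)⟧' = 𝟙 _ ≫ g'
      rw [CategoryTheory.Functor.map_id, Category.comp_id]
      exact (Category.id_comp _).symm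
  obtain ⟨h, h₁, h₂⟩ := complete_distinguished_triangle_morphism
    (F.mapTriangle.obj (Triangle.mk ((S A n).map j) ((S A n).map q) g'))
    (F'.mapTriangle.obj (Triangle.mk ((S A n).map j) ((S A n).map q) g'))
    (F.map_distinguished _ hT₂) (F'.map_distinguished _ hT₂)
    ((σ F F' s n).hom.app L) ((σ F F' s n).hom.app N) ((σ F F' s n).hom.naturality j)
  change F.obj ((S A n).obj M) ⟶ F'.obj ((S A n).obj M) at h
  let σM : F.obj ((S A n).obj M) ⟶ F'.obj ((S A n).obj M) := (σ F F' s n).hom.app M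
  have hd : F.map ((S A n).map q) ≫ (h - σM) = 0 := by
    rw [Preadditive.comp_sub, sub_eq_zero]
    exact h₁.trans ((σ F F' s n).hom.naturality q).symm
  obtain ⟨x, hx⟩ : ∃ x : (F.obj ((S A n).obj L))⟦(1 : ℤ)⟧ ⟶ F'.obj ((S A n).obj M),
      h - σM = (F.map g' ≫ (F.commShiftIso (1 : ℤ)).hom.app ((S A n).obj L)) ≫ x :=
    Triangle.yoneda_exact₃ _ (F.map_distinguished _ hT₂) (h - σM) hd
  have hx0 : x = 0 := by
    have := hNV (n - 1) n (by omega) L M
      (F.map ((shiftS A n).inv.app L) ≫ (F.commShiftIso (1 : ℤ)).hom.app _ ≫ x ≫ (σ F F' s n).inv.app M)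
    refine (cancel_mono ((σ F F' s n).inv.app M)).1 ?_
    refine (cancel_epi (F.map ((shiftS A n).inv.app L) ≫ (F.commShiftIso (1 : ℤ)).hom.app _)).1 ?_
    exact (Category.assoc _ _ _).trans (this.trans (comp_zero.symm.trans (congrArg (_ ≫ ·) zero_comp.symm)))
  rw [hx0, comp_zero, sub_eq_zero] at hx
  subst hx
  have h₃ : F.map g' ≫ τ 1 ((σ F F' s n).hom.app L) = (σ F F' s n).hom.app M ≫ F'.map g' := by
    have h₂' : (F.map g' ≫ (F.commShiftIso (1 : ℤ)).hom.app ((S A n).obj L)) ≫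
        ((σ F F' s n).hom.app L)⟦(1 : ℤ)⟧' =
        σM ≫ F'.map g' ≫ (F'.commShiftIso (1 : ℤ)).hom.app ((S A n).obj L) := h₂
    rw [← cancel_mono ((F'.commShiftIso (1 : ℤ)).hom.app ((S A n).obj L))]
    simp only [τ, Category.assoc, Iso.inv_hom_id_app] at h₂' ⊢
    erw [Category.comp_id]
    exact h₂'
  have eg : g = g' ≫ (shiftS A n).hom.app L := by
    simp only [g', Category.assoc, Iso.inv_hom_id_app]
    exact (Category.comp_id _).symm
  rw [eg, F.map_comp, F'.map_comp, Category.assoc, σ_shift, reassoc_of% h₃]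

/-- No maps from an object of smaller degrees. -/
theorem nv_left (hNV : NV F) {a b m : ℤ} {K : DerivedCategory.Bounded A} (hK : Win a b K) (hbm : b < m)
    (M : A) (f : F.obj K ⟶ F.obj ((S A m).obj M)) : f = 0 := by
  by_cases hab : a ≤ b
  · obtain ⟨d, rfl⟩ : ∃ d : ℕ, b = a + d := ⟨(b - a).toNat, by omega⟩
    refine devissage (fun K => ∀ f : F.obj K ⟶ F.obj ((S A m).obj M), f = 0) ?_ ?_ d a K hK ?_ f
    · intro K L e h f
      rw [← cancel_epi (F.map e.hom), comp_zero]
      exact h _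
    · intro K₁ K₂ K₃ u g δ hT h₁ h₃ f
      obtain ⟨y, hy⟩ := Triangle.yoneda_exact₂ _ (F.map_distinguished _ hT) f (h₁ _)
      rw [hy, h₃ y]
      exact comp_zero
    · exact fun n _ hn L f => hNV n m (by omega) L M f
  · have : 𝟙 K = 0 := hom_eq_zero hK hK (by omega) _
    rw [← Category.id_comp f, ← F.map_id, this, F.map_zero, zero_comp]

end DEquivLib
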