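import Groth.Prelude.Def_W4stkfunctorsequivSib
import Groth.Agent.DerLib.Ghost

/-!
# The bounded derived category: shifted objects and windows of degrees
-/

set_option autoImplicit false

universe w v u

open CategoryTheory CategoryTheory.Limits CategoryTheory.Pretriangulated DerivedCategory

namespace DEquivLib

variable {A : Type u} [Category.{v} A] [Abelian A] [HasDerivedCategory.{w} A]

variable (A) in
/-- Cohomology on the bounded derived category. -/
noncomputable abbrev H (i : ℤ) : DerivedCategory.Bounded A ⥤ A :=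
  DerivedCategory.Bounded.ι ⋙ DerivedCategory.homologyFunctor A i

variable (A) in
/-- An object placed in degree `n`. -/
noncomputable abbrev S (n : ℤ) : A ⥤ DerivedCategory.Bounded A :=
  DEquiv.singleB A ⋙ shiftFunctor (DerivedCategory.Bounded A) (-n)

variable (A) in
/-- Compatibility with Mathlib's single functors. -/
noncomputable def sIso (n : ℤ) : S A n ⋙ DerivedCategory.Bounded.ι ≅ DerivedCategory.singleFunctor A n :=
  Functor.associator _ _ _ ≪≫
    Functor.isoWhiskerLeft _ (DerivedCategory.Bounded.ι.commShiftIso (-n)) ≪≫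
      (Functor.associator _ _ _).symm ≪≫
        Functor.isoWhiskerRight (ObjectProperty.liftCompιIso _ (DerivedCategory.singleFunctor A 0) _) _ ≪≫
          (DerivedCategory.singleFunctors A).shiftIso (-n) n 0 (neg_add_cancel n)

variable (A) in
/-- The cohomology of an object placed in degree `n`. -/
noncomputable def hsIso (n : ℤ) : S A n ⋙ H A n ≅ 𝟭 A :=
  (Functor.associator _ _ _).symm ≪≫ Functor.isoWhiskerRight (sIso A n) _ ≪≫
    DerivedCategory.singleFunctorCompHomologyFunctorIso A n

/-- Cohomology is concentrated in the window `[a, b]`. -/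
def Win (a b : ℤ) (K : DerivedCategory.Bounded A) : Prop :=
  (DerivedCategory.Bounded.ι.obj K).IsGE a ∧ (DerivedCategory.Bounded.ι.obj K).IsLE b

theorem win_mono {a a' b b' : ℤ} (ha : a' ≤ a) (hb : b ≤ b') {K : DerivedCategory.Bounded A} (h : Win a b K) :
    Win a' b' K := by
  have := h.1
  have := h.2
  exact ⟨DerivedCategory.TStructure.t.isGE_of_ge _ a' a ha, DerivedCategory.TStructure.t.isLE_of_le _ b b' hb⟩

theorem exists_win (K : DerivedCategory.Bounded A) : ∃ k : ℕ, Win (-(k : ℤ)) k K := by
  obtain ⟨⟨a, ha⟩, ⟨b, hb⟩⟩ := K.2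
  exact ⟨max a.natAbs b.natAbs,
    win_mono (a := a) (b := b) (by omega) (by omega) ⟨ha, hb⟩⟩

theorem win_S (n : ℤ) (M : A) : Win n n ((S A n).obj M) :=
  ⟨DerivedCategory.TStructure.t.isGE_of_iso ((sIso A n).app M).symm n,
    DerivedCategory.TStructure.t.isLE_of_iso ((sIso A n).app M).symm n⟩

theorem win_of_iso {a b : ℤ} {K L : DerivedCategory.Bounded A} (e : K ≅ L) (h : Win a b K) : Win a b L := by
  have := h.1
  have := h.2
  exact ⟨DerivedCategory.TStructure.t.isGE_of_iso (DerivedCategory.Bounded.ι.mapIso e) a,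
    DerivedCategory.TStructure.t.isLE_of_iso (DerivedCategory.Bounded.ι.mapIso e) b⟩

theorem isZero_H {a b : ℤ} {K : DerivedCategory.Bounded A} (h : Win a b K) {i : ℤ} (hi : i < a ∨ b < i) :
    IsZero ((H A i).obj K) := by
  have := h.1
  have := h.2
  rcases hi with hi | hi
  · exact DerivedCategory.isZero_of_isGE (DerivedCategory.Bounded.ι.obj K) a i hi
  · exact DerivedCategory.isZero_of_isLE (DerivedCategory.Bounded.ι.obj K) b i hi

theorem exists_iso_S {n : ℤ} {K : DerivedCategory.Bounded A} (h : Win n n K) :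
    ∃ M : A, Nonempty (K ≅ (S A n).obj M) := by
  have := h.1
  have := h.2
  obtain ⟨M, ⟨e⟩⟩ := DerivedCategory.exists_iso_singleFunctor_obj_of_isGE_of_isLE
    (DerivedCategory.Bounded.ι.obj K) n
  exact ⟨M, ⟨DerivedCategory.Bounded.ι.preimageIso (e ≪≫ ((sIso A n).app M).symm)⟩⟩

theorem hom_eq_zero {a b a' b' : ℤ} {K L : DerivedCategory.Bounded A} (hK : Win a b K) (hL : Win a' b' L)
    (hlt : b < a') (f : K ⟶ L) : f = 0 := by
  have := hK.2
  have := hL.1
  exact DerivedCategory.Bounded.ι.map_injective
    ((DerivedCategory.TStructure.t.zero (DerivedCategory.Bounded.ι.map f) b a' hlt).trans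
      (Functor.map_zero _ _ _).symm)

theorem eq_zero_of_H {a b m : ℤ} {K L : DerivedCategory.Bounded A} (hK : Win a m K) (hL : Win m b L) (f : K ⟶ L)
    (h : (H A m).map f = 0) : f = 0 := by
  have := hK.2
  have := hL.1
  exact DerivedCategory.Bounded.ι.map_injective
    ((Groth.Agent.DerLib.Ghost.eq_zero_of_homologyMap_eq_zero m _ h).trans (Functor.map_zero _ _ _).symm)

theorem epi_H_S_map (n : ℤ) {M M' : A} (p : M ⟶ M') [Epi p] : Epi ((H A n).map ((S A n).map p)) :=
  ((MorphismProperty.epimorphisms A).arrow_mk_iso_iff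
    (Arrow.isoMk ((hsIso A n).app M) ((hsIso A n).app M') ((hsIso A n).hom.naturality p).symm)).2 ‹_›

/-- A map from an object in degree `b` onto the top cohomology. -/
theorem exists_admissible {a b : ℤ} {K : DerivedCategory.Bounded A} (hK : Win a b K) :
    ∃ (P : A) (u : (S A b).obj P ⟶ K), Epi ((H A b).map u) := by
  have := hK.2
  obtain ⟨E, hE, ⟨e⟩⟩ := DerivedCategory.exists_iso_Q_obj_of_isLE (DerivedCategory.Bounded.ι.obj K) b
  let φ : (HomologicalComplex.single A (ComplexShape.up ℤ) b).obj (E.X b) ⟶ E :=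
    HomologicalComplex.mkHomFromSingle (𝟙 _) fun j hj =>
      (E.isZero_of_isStrictlyLE b j (by simp at hj; omega)).eq_of_tgt _ _
  have hφ : IsIso (φ.f b) := by
    rw [show φ.f b = (HomologicalComplex.singleObjXSelf (ComplexShape.up ℤ) b (E.X b)).hom ≫ 𝟙 _ from
      HomologicalComplex.mkHomFromSingle_f _ _, Category.comp_id]
    infer_instance
  have := E.isIso_iCycles b (b + 1) (by simp) ((E.isZero_of_isStrictlyLE b (b + 1) (by omega)).eq_of_tgt _ _)
  have := ((HomologicalComplex.single A (ComplexShape.up ℤ) b).obj (E.X b)).isIso_iCycles b (b + 1) (by simp)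
    ((HomologicalComplex.isZero_single_obj_X _ b _ (b + 1) (by omega)).eq_of_tgt _ _)
  have : IsIso (HomologicalComplex.cyclesMap φ b ≫ E.iCycles b) := by
    rw [HomologicalComplex.cyclesMap_i]
    infer_instance
  have : IsIso (HomologicalComplex.cyclesMap φ b) := IsIso.of_isIso_comp_right _ (E.iCycles b)
  have : Epi (HomologicalComplex.homologyMap φ b) := by
    have h : Epi (((HomologicalComplex.single A (ComplexShape.up ℤ) b).obj (E.X b)).homologyπ b ≫
        HomologicalComplex.homologyMap φ b) := by
      rw [HomologicalComplex.homologyπ_naturality]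
      infer_instance
    exact epi_of_epi (((HomologicalComplex.single A (ComplexShape.up ℤ) b).obj (E.X b)).homologyπ b) _
  have hQ : Epi ((DerivedCategory.homologyFunctor A b).map (DerivedCategory.Q.map φ)) :=
    ((MorphismProperty.epimorphisms A).arrow_mk_iso_iff
      (Arrow.isoMk ((DerivedCategory.homologyFunctorFactors A b).app _) ((DerivedCategory.homologyFunctorFactors A b).app _)
        ((DerivedCategory.homologyFunctorFactors A b).hom.naturality φ).symm)).2 this
  refine ⟨E.X b, DerivedCategory.Bounded.ι.preimage ((sIso A b).hom.app (E.X b) ≫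
    (DerivedCategory.singleFunctorIsoCompQ A b).hom.app (E.X b) ≫ DerivedCategory.Q.map φ ≫ e.inv), ?_⟩
  simp only [Functor.comp_map, Functor.map_preimage, Functor.map_comp]
  exact @epi_comp _ _ _ _ _ _ inferInstance _ (@epi_comp _ _ _ _ _ _ inferInstance _
    (@epi_comp _ _ _ _ _ _ hQ _ inferInstance))

/-- Maps out of an object in degree `b` into lower degrees are effaceable. -/
theorem exists_epi_kill (b : ℤ) {B : A} {X : DerivedCategory A} [X.IsLE (b - 1)]
    (φ : (DerivedCategory.singleFunctor A b).obj B ⟶ X) :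
    ∃ (B' : A) (p : B' ⟶ B), Epi p ∧ (DerivedCategory.singleFunctor A b).map p ≫ φ = 0 := by
  let e := DerivedCategory.singleFunctorIsoCompQ A b
  obtain ⟨Y, hY, ⟨eY⟩⟩ := DerivedCategory.exists_iso_Q_obj_of_isLE X (b - 1)
  obtain ⟨X', hX', s, hs, g, hφ⟩ := DerivedCategory.right_fac_of_isStrictlyLE
    (X := (CochainComplex.singleFunctor A b).obj B) (Y := Y) (e.inv.app B ≫ φ ≫ eY.hom) b
  rw [DerivedCategory.isIso_Q_map_iff_quasiIso] at hs
  let p : X'.X b ⟶ B := s.f b ≫ (HomologicalComplex.singleObjXSelf (.up ℤ) b B).hom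
  have hp : Epi p := by
    have hX : IsZero (X'.X (b + 1)) := X'.isZero_of_isStrictlyLE b _ (by lia)
    have hB : IsZero (((CochainComplex.singleFunctor A b).obj B).X (b + 1)) :=
      HomologicalComplex.isZero_single_obj_X (.up ℤ) b B (b + 1) (by lia)
    have := X'.isIso_homologyι b (b + 1) (by simp) (hX.eq_of_tgt _ _)
    have := ((CochainComplex.singleFunctor A b).obj B).isIso_homologyι b (b + 1) (by simp)
      (hB.eq_of_tgt _ _)
    have h1 : IsIso (HomologicalComplex.opcyclesMap s b) := by
      have h2 : X'.homologyι b ≫ HomologicalComplex.opcyclesMap s b =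
          HomologicalComplex.homologyMap s b ≫ HomologicalComplex.homologyι _ b :=
        (HomologicalComplex.homologyι_naturality s b).symm
      have : IsIso (X'.homologyι b ≫ HomologicalComplex.opcyclesMap s b) := h2 ▸ inferInstance
      exact IsIso.of_isIso_comp_left (X'.homologyι b) _
    have h3 : IsIso (((CochainComplex.singleFunctor A b).obj B).pOpcycles b) :=
      ((CochainComplex.singleFunctor A b).obj B).isIso_pOpcycles (b - 1) b (by simp)
        ((HomologicalComplex.isZero_single_obj_X (.up ℤ) b B (b - 1) (by lia)).eq_of_src _ _)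
    have h4 : Epi (s.f b ≫ ((CochainComplex.singleFunctor A b).obj B).pOpcycles b) := by
      rw [← HomologicalComplex.p_opcyclesMap]
      infer_instance
    have h5 : Epi (s.f b) := by
      have := epi_comp (s.f b ≫ ((CochainComplex.singleFunctor A b).obj B).pOpcycles b)
        (inv (((CochainComplex.singleFunctor A b).obj B).pOpcycles b))
      simpa using this
    exact @epi_comp _ _ _ _ _ _ h5 _ inferInstance
  refine ⟨X'.X b, p, hp, ?_⟩
  let π : (CochainComplex.singleFunctor A b).obj (X'.X b) ⟶ X' :=
    HomologicalComplex.mkHomFromSingle (𝟙 _) (fun i hi => by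
      have : IsZero (X'.X i) := X'.isZero_of_isStrictlyLE b i (by simp at hi; lia)
      exact this.eq_of_tgt _ _)
  have hπs : π ≫ s = (CochainComplex.singleFunctor A b).map p := by
    apply HomologicalComplex.from_single_hom_ext
    rw [HomologicalComplex.comp_f]
    exact (congrArg (· ≫ s.f b) ((HomologicalComplex.mkHomFromSingle_f _ _).trans
      (Category.comp_id _))).trans ((by simp only [p, Category.assoc]; erw [Iso.hom_inv_id, Category.comp_id]; rfl) : (HomologicalComplex.singleObjXSelf
        (ComplexShape.up ℤ) b (X'.X b)).hom ≫ s.f b = (HomologicalComplex.singleObjXSelf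
        (ComplexShape.up ℤ) b (X'.X b)).hom ≫ p ≫ (HomologicalComplex.singleObjXSelf
        (ComplexShape.up ℤ) b B).inv) |>.trans
      (HomologicalComplex.single_map_f_self (ComplexShape.up ℤ) b p).symm
  have hπg : π ≫ g = 0 := by
    apply HomologicalComplex.from_single_hom_ext
    exact (Y.isZero_of_isStrictlyLE (b - 1) b (by lia)).eq_of_tgt _ _
  rw [← DerivedCategory.isIso_Q_map_iff_quasiIso] at hs
  have h0 : DerivedCategory.Q.map ((CochainComplex.singleFunctor A b).map p) ≫
      e.inv.app B ≫ φ ≫ eY.hom = 0 := by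
    rw [hφ, ← hπs, Functor.map_comp, Category.assoc, IsIso.hom_inv_id_assoc,
      ← Functor.map_comp, hπg, Functor.map_zero]
  have h1 : DerivedCategory.Q.map ((CochainComplex.singleFunctor A b).map p) ≫ e.inv.app B =
      e.inv.app (X'.X b) ≫ (DerivedCategory.singleFunctor A b).map p := e.inv.naturality p
  rw [← Category.assoc, h1, Category.assoc, ← cancel_epi (e.hom.app (X'.X b)),
    Iso.hom_inv_id_app_assoc, comp_zero, ← Category.assoc] at h0
  exact (cancel_mono eY.hom).1 (h0.trans zero_comp.symm)

theorem exists_epi_kill_S {a b : ℤ} {P : A} {K : DerivedCategory.Bounded A} (hK : Win a (b - 1) K)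
    (φ : (S A b).obj P ⟶ K) : ∃ (P' : A) (p : P' ⟶ P), Epi p ∧ (S A b).map p ≫ φ = 0 := by
  have := hK.2
  obtain ⟨P', p, hp, h⟩ := exists_epi_kill b ((sIso A b).inv.app P ≫ DerivedCategory.Bounded.ι.map φ)
  refine ⟨P', p, hp, DerivedCategory.Bounded.ι.map_injective ?_⟩
  rw [Functor.map_zero, Functor.map_comp]
  rw [← cancel_epi ((sIso A b).inv.app P'), comp_zero, ← Category.assoc]
  refine (congrArg (· ≫ _) ((sIso A b).inv.naturality p).symm).trans ?_
  rw [Category.assoc]
  exact h

/-- The cone of a map from degree `b` onto the top cohomology. -/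
theorem win_cone {a b : ℤ} (hab : a < b) {N : A} {K K' : DerivedCategory.Bounded A} (hK : Win a b K)
    (u : (S A b).obj N ⟶ K) (g : K ⟶ K') (δ : K' ⟶ ((S A b).obj N)⟦(1 : ℤ)⟧)
    (hT : Triangle.mk u g δ ∈ distTriang (DerivedCategory.Bounded A)) [Epi ((H A b).map u)] :
    Win a (b - 1) K' := by
  have hT' := DerivedCategory.Bounded.ι.map_distinguished _ hT
  let T := DerivedCategory.Bounded.ι.mapTriangle.obj (Triangle.mk u g δ)
  have hz : ∀ i, i < a ∨ b ≤ i → IsZero ((H A i).obj K') := by
    intro i hi
    refine (DerivedCategory.HomologySequence.exact₃ T hT' i (i + 1) rfl).isZero_X₂ ?_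
      ((isZero_H (win_S b N) (i := i + 1) (by omega)).eq_of_tgt _ _)
    by_cases hib : i = b
    · subst hib
      exact (cancel_epi ((H A i).map u)).1
        (((DerivedCategory.homologyFunctor A i).map_comp _ _).symm.trans
          ((congrArg (DerivedCategory.homologyFunctor A i).map
            (comp_distTriang_mor_zero₁₂ T hT')).trans (Functor.map_zero _ _ _)) |>.trans comp_zero.symm)
    · exact (isZero_H hK (i := i) (by omega)).eq_of_src _ _
  exact ⟨(DerivedCategory.isGE_iff _ a).2 fun i hi => hz i (Or.inl hi),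
    (DerivedCategory.isLE_iff _ (b - 1)).2 fun i hi => hz i (Or.inr (by omega))⟩

end DEquivLib
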